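import Cfsg.Agent.Lib.ReeU.Dat

set_option autoImplicit false
set_option maxRecDepth 100000

namespace Cfsg.Lib.ReeU.Kr

theorem Q11_chk : check [[two.f, Q11.f],
    [dA.f]] 4 1 2 3 3 = true := by decide +kernel
theorem Q12_chk : check [[two.f, Q12.f],
    [two.f, nA.f]] 4 1 2 3 3 = true := by decide +kernel
theorem Q13_chk : check [[two.f, Q13.f],
    [dA.f]] 4 1 2 3 3 = true := by decide +kernel
theorem Q14_chk : check [[two.f, Q14.f],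
    [two.f, ⟨nA, 2, 0, 0, 1⟩],
    [pb.f, dA.f]] 5 2 4 7 4 = true := by decide +kernel
theorem Q20_chk : check [[two.f, two.f, Q20.f],
    [⟨nS, 2, 0, 0, 1⟩, pb.f, dA.f],
    [⟨nS, 2, 0, 0, 1⟩, nA.f]] 8 4 12 20 6 = true := by decide +kernel
theorem Q21_chk : check [[two.f, two.f, Q21.f],
    [⟨nS, 2, 0, 0, 1⟩, pb.f, dA.f],
    [⟨nS, 2, 0, 0, 1⟩, ⟨nA, 2, 0, 0, 1⟩],
    [nS.f, nA.f]] 8 4 12 27 7 = true := by decide +kernel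
theorem Q22_chk : check [[two.f, two.f, Q22.f],
    [⟨nS, 2, 0, 0, 1⟩, pb.f, pb.f, dA.f],
    [two.f, dS.f, dA.f]] 8 5 15 35 7 = true := by decide +kernel
theorem Q23_chk : check [[two.f, two.f, Q23.f],
    [nS.f, ⟨nA, 2, 0, 0, 1⟩]] 7 3 9 24 6 = true := by decide +kernel
theorem E20_chk : check [[two.f, E20.f],
    [nA.f, nB.f],
    [two.f, ⟨nB, 2, 0, 0, 1⟩, pb.f, dA.f],
    [two.f, ⟨nB, 2, 0, 0, 1⟩, nA.f],
    [dA.f, dA.f, e4.f]] 10 5 15 39 7 = true := by decide +kernel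
theorem E21_chk : check [[two.f, E21.f],
    [⟨nA, 2, 0, 0, 1⟩, nB.f],
    [two.f, ⟨nB, 2, 0, 0, 1⟩, pb.f, dA.f],
    [two.f, ⟨nB, 2, 0, 0, 1⟩, ⟨nA, 2, 0, 0, 1⟩],
    [dA.f, dA.f, e4.f]] 10 5 15 43 8 = true := by decide +kernel
theorem E22_chk : check [[two.f, E22.f],
    [two.f, ⟨nB, 2, 0, 0, 1⟩, pb.f, pb.f, dA.f],
    [pb.f, dA.f, dA.f, e4.f],
    [⟨nA, 2, 0, 0, 1⟩, dA.f, e4.f]] 9 6 18 47 8 = true := by decide +kernel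
theorem E30_chk : check [[two.f, two.f, E30.f],
    [nC.f, dA.f],
    [two.f, dA.f, dA.f, e4.f, D2.f],
    [⟨nB, 2, 0, 0, 1⟩, pb.f, dA.f, D2.f],
    [⟨nB, 2, 0, 0, 1⟩, nA.f, D2.f]] 12 9 36 123 9 = true := by decide +kernel
theorem E31_chk : check [[two.f, two.f, E31.f],
    [⟨nC, 2, 0, 0, 1⟩, dA.f],
    [two.f, dA.f, dA.f, e4.f, D2.f],
    [⟨nB, 2, 0, 0, 1⟩, pb.f, dA.f, D2.f],
    [⟨nB, 2, 0, 0, 1⟩, ⟨nA, 2, 0, 0, 1⟩, D2.f]] 13 9 36 133 10 = true := by decide +kernel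
theorem E32_chk : check [[two.f, two.f, E32.f],
    [pb.f, ⟨nC, 2, 0, 0, 1⟩, dA.f],
    [two.f, pb.f, dA.f, dA.f, e4.f, D2.f],
    [⟨nA, 2, 0, 0, 1⟩, dA.f, e4.f, D2.f],
    [pb.f, pb.f, ⟨nB, 2, 0, 0, 1⟩, dA.f, D2.f]] 12 10 40 148 10 = true := by decide +kernel
theorem E40_chk : check [[two.f, E40.f],
    [n1.f],
    [two.f, D2.f]] 6 5 10 13 5 = true := by decide +kernel
theorem E41_chk : check [[two.f, E41.f],
    [⟨n1, 2, 0, 0, 1⟩],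
    [two.f, D2.f]] 6 5 10 18 6 = true := by decide +kernel
theorem E42_chk : check [[two.f, E42.f],
    [pb.f, ⟨n1, 2, 0, 0, 1⟩],
    [two.f, pb.f, D2.f]] 6 6 12 22 6 = true := by decide +kernel
theorem dAn_chk : check [[⟨dA, 2, 0, 0, 1⟩],
    [two.f, dA.f]] 4 1 2 3 3 = true := by decide +kernel
theorem e4n_chk : check [[⟨e4, 2, 0, 0, 1⟩],
    [two.f, e4.f]] 5 5 5 5 3 = true := by decide +kernel
theorem D2n_chk : check [[⟨D2, 2, 0, 0, 1⟩],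
    [two.f, D2.f]] 6 5 10 13 5 = true := by decide +kernel
theorem dSn_chk : check [[⟨dS, 2, 0, 0, 1⟩],
    [two.f, dS.f]] 6 5 8 13 5 = true := by decide +kernel
def cM10 : Pol := ⟨9, 7,
  [[[0, 0, 0, 0, 0xa9500], [0, 0, 0, 0x46620, 0x54a80], [0, 0, 0, 0x88044, 0xaa550], [0, 0, 0, 0x459a2]],
   [[0, 0, 0, 0x91800], [0, 0, 0x59940, 0xaa040], [0, 0, 0x45198, 0x62910], [0, 0, 0xa6296, 0x55aa0], [0, 0, 0x8a651]],
   [[0, 0, 0x81000], [0, 0x66600, 0x82500], [0, 0x65520, 0x46290], [0, 0x9662a, 0x49860], [0, 0x91125]],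
   [[], [0, 0x42000], [0x99900, 0xa0200], [0x41190, 0x65820], [0xa1559]]]⟩
def cM11 : Pol := ⟨6, 6,
  [[[0, 0, 0, 0x1554], [0, 0, 0x2220, 0x95], [0, 0, 0x2600, 0x2540], [0, 0, 0x451, 0xaa0]],
   [[0, 0, 0x2490, 0x2a00], [0, 0x1680, 0x1486, 0x2000], [0, 0x2080, 0x900, 0x550], [0, 0x1601, 0x1118]],
   [[0, 0, 0x1800], [0, 0x2424, 0x2800], [0x2220, 0x2941, 0x1850], [0x2a51, 0x509]],
   [[], [0x810, 0x2a00], [0x2892, 0x2550], [0x29a6]]]⟩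
def cM12 : Pol := ⟨6, 6,
  [[[0, 0, 0, 0x1450], [0, 0, 0x2080, 0x2800], [0, 0, 0x410, 0xa00]],
   [[0, 0, 0x2490, 0x2140], [0, 0x1680, 0x256, 0xa50], [0, 0x888, 0x252], [0, 0x820, 0xa50]],
   [[0, 0, 0x1500], [0, 0x2040, 0x1a0], [0x2940, 0x1205, 0x5a0], [0x1484, 0x1a04]],
   [[], [0x810, 0x2a00], [0x2406, 0x1110], [0x188a]]]⟩
def cM13 : Pol := ⟨6, 5,
  [[[0, 0, 0, 0x2a00], [0, 0, 0x1110, 0x2000], [0, 0, 0x1900, 0x550], [0, 0, 0x8a2]],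
   [[0, 0, 0x1800], [0, 0x2940, 0x2800], [0, 0x1040, 0x1850], [0, 0x2902]],
   [[], [0, 0x2a00], [0x1110, 0x2550], [0x15a2]]]⟩
theorem M10_chk : check [[two.f, two.f, dA.f, M1.f],
    [cM11.f, Q20.f],
    [cM12.f, E20.f]] 14 10 60 339 11 = true := by decide +kernel
theorem M11_chk : check [[two.f, two.f, dA.f, M0.f],
    [cM10.f, Q11.f],
    [cM11.f, Q21.f],
    [cM12.f, E21.f],
    [cM13.f, E20.f]] 15 10 60 348 12 = true := by decide +kernel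
theorem M12_chk : check [[cM10.f, Q12.f],
    [cM11.f, Q22.f],
    [cM12.f, E22.f]] 14 11 66 373 12 = true := by decide +kernel
theorem M13_chk : check [[cM10.f, Q13.f],
    [cM11.f, Q23.f],
    [cM13.f, E21.f]] 13 10 60 348 11 = true := by decide +kernel
theorem M14_chk : check [[cM10.f, Q14.f],
    [cM13.f, E22.f]] 12 11 66 373 11 = true := by decide +kernel
def cM20 : Pol := ⟨9, 9,
  [[[0, 0, 0, 0, 0, 0x41040], [0, 0, 0, 0, 0x9a698, 0x81810], [0, 0, 0, 0, 0x40626, 0x60000], [0, 0, 0, 0x28014, 0x82260, 0x20100], [0, 0, 0, 0x28845, 0x19260]],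
   [[0, 0, 0, 0, 0x56a00], [0, 0, 0, 0x89910, 0x29460, 0x10800], [0, 0, 0, 0x249a5, 0x2a450, 0x10200], [0, 0, 0x22a88, 0x1446, 0x69210], [0, 0, 0x9189, 0x89598, 0x10200], [0, 0, 0x1448a, 0x26190]],
   [[0, 0, 0, 0x62400], [0, 0, 0xa6680, 0x8640, 0x1a400], [0, 0, 0x14028, 0x66510, 0x5a00], [0, 0x25560, 0x92142, 0x8280, 0x20100], [0, 0x861, 0x22011, 0x66120], [0, 0x1a262, 0x84804]],
   [[], [0, 0, 0x56a00, 0x15000], [0, 0x89910, 0x4590, 0x600], [0, 0x118aa, 0xa500, 0x2a900], [0x1aa90, 0x22a61, 0x58110], [0x11916, 0x90585]],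
   [[], [], [0, 0x4a100, 0x2a000], [0x90060, 0xa9920, 0x25500], [0x51a59, 0x64140], [0x80412]]]⟩
def cM21 : Pol := ⟨6, 8,
  [[[0, 0, 0, 0, 0x2001], [0, 0, 0, 0x1998, 0x40], [0, 0, 0, 0x1040, 0x1800], [0, 0, 0x514, 0x980], [0, 0, 0x28a, 0x260, 0x200]],
   [[0, 0, 0, 0x1554, 0x1080], [0, 0, 0x2220, 0x692, 0x1400], [0, 0, 0x190, 0x640, 0x800], [0, 0xa28, 0x1446, 0x1aa0, 0x200], [0, 0x9a6, 0x548, 0x240]],
   [[0, 0, 0, 0x2a00], [0, 0, 0xa68, 0x100, 0x400], [0, 0x2220, 0x2102, 0x1920, 0x200], [0, 0x12a, 0x964, 0x680], [0x492, 0x1964, 0x1aa0]],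
   [[], [0, 0x624, 0x2a00, 0x800], [0, 0x462, 0x160, 0xa00], [0x2112, 0x82a, 0x1040], [0x2664, 0x280]],
   [[], [], [0x852, 0x29a0, 0x600], [0x2aa8, 0x2040], [0x2121]]]⟩
def cM22 : Pol := ⟨6, 7,
  [[[0, 0, 0, 0, 0x2080], [0, 0, 0, 0x1900], [0, 0, 0, 0x16a6, 0x400], [0, 0, 0, 0x5a0, 0x100]],
   [[0, 0, 0, 0x1554, 0x2820], [0, 0, 0x2220, 0x1482, 0x400], [0, 0, 0x1144, 0x50, 0x200], [0, 0, 0x1860, 0x820], [0, 0, 0x980]],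
   [[0, 0, 0, 0x2040], [0, 0, 0x612, 0x22a0], [0, 0x2220, 0x1881, 0x850], [0, 0x1509, 0x198], [0, 0x116a]],
   [[], [0, 0x624, 0x2580], [0, 0x555, 0x2580], [0x2001, 0x2262]],
   [[], [], [0x852, 0x2850], [0x2286]]]⟩
def cM23 : Pol := ⟨6, 7,
  [[[0, 0, 0, 0, 0x1080], [0, 0, 0, 0x2664, 0x1810], [0, 0, 0, 0x20a6, 0x400], [0, 0, 0xa28, 0x820, 0x100], [0, 0, 0x145, 0x260]],
   [[0, 0, 0, 0x2a00], [0, 0, 0x1110, 0x920, 0x400], [0, 0, 0x249, 0x10a0, 0x200], [0, 0x514, 0x2959, 0xa10], [0, 0x659, 0x548]],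
   [[], [0, 0, 0x2a00, 0x800], [0, 0x1110, 0, 0xa00], [0, 0xa84, 0x14a0], [0x861, 0x265a]],
   [[], [], [0, 0x2850, 0x600], [0x1002, 0x2580], [0x1185]]]⟩
theorem M20_chk : check [[two.f, two.f, pX.f, dA.f, dA.f, pYZ.f, M2.f],
    [cM21.f, Q20.f],
    [cM22.f, E20.f]] 16 10 70 459 12 = true := by decide +kernel
theorem M21_chk : check [[cM20.f, Q11.f],
    [cM21.f, Q21.f],
    [cM22.f, E21.f],
    [cM23.f, E20.f]] 15 10 70 468 12 = true := by decide +kernel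
theorem M22_chk : check [[two.f, two.f, pm.f, dA.f, dA.f, M0.f],
    [cM20.f, Q12.f],
    [cM21.f, Q22.f],
    [cM22.f, E22.f]] 17 11 77 515 12 = true := by decide +kernel
theorem M23_chk : check [[cM20.f, Q13.f],
    [cM21.f, Q23.f],
    [cM23.f, E21.f]] 14 10 70 477 12 = true := by decide +kernel
theorem M24_chk : check [[cM20.f, Q14.f],
    [cM23.f, E22.f]] 14 11 77 515 12 = true := by decide +kernel
def cM30 : Pol := ⟨10, 10,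
  [[[0, 0, 0, 0, 0, 0x2a540], [0, 0, 0, 0, 0, 0x80850], [0, 0, 0, 0, 0x40080, 0x21000], [0, 0, 0, 0, 0x41820, 0x5aa50]],
   [[0, 0, 0, 0, 0x24600, 0xa9500], [0, 0, 0, 0, 0x124218, 0xa6680], [0, 0, 0, 0x9aa10, 0x2958a2, 0xa050], [0, 0, 0, 0x48690, 0x108495], [0, 0, 0, 0x86592, 0x5aa50]],
   [[0, 0, 0, 0x20400, 0x91800], [0, 0, 0, 0x142200, 0x80040], [0, 0, 0x88800, 0x58aa9, 0x64050], [0, 0, 0x15090, 0x14a51, 0x50a00], [0, 0, 0x66522, 0x161046], [0, 0, 0x8241, 0x5aa50]],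
   [[0, 0, 0, 0x81000], [0, 0, 0x126540, 0x99900], [0, 0x66600, 0x921a8, 0xa6050], [0, 0x944a0, 0x16a601, 0x59100], [0, 0x66522, 0x44202, 0xa55a0], [0, 0x11481, 0x1a5824]],
   [[], [], [0, 0x141240, 0xa8000], [0x99900, 0x80808, 0x61800], [0xa0050, 0xa8666, 0x98820], [0x29061, 0x1522a1]],
   [[], [], [0, 0x42000], [0x1a8440, 0x29a00], [0x24a158, 0x82260], [0x182496]]]⟩
def cM31 : Pol := ⟨7, 8,
  [[[], [0, 0, 0, 0, 0x8154], [0, 0, 0, 0, 0xaa95], [0, 0, 0, 0, 0x2a80]],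
   [[0, 0, 0, 0, 0x69a8], [0, 0, 0, 0x4020, 0x402a], [0, 0, 0x1110, 0x190a, 0x1a80], [0, 0, 0x1588, 0x98a8, 0x550], [0, 0, 0x451, 0x1020]],
   [[0, 0, 0, 0x8460, 0x2a00], [0, 0, 0x2610, 0x22a9, 0x2540], [0, 0x2940, 0x5850, 0x6a88, 0xaa0], [0, 0x1964, 0xa20, 0x2444], [0, 0x2445, 0x8889]],
   [[0, 0, 0, 0x1800], [0, 0x2040, 0x9a98, 0x2080], [0, 0x1590, 0x1866, 0x1260], [0x1860, 0x4901, 0x521a], [0x1289, 0x6052]],
   [[], [0, 0x420, 0x2100], [0x1890, 0xa0a1, 0x2920], [0x606, 0x9495], [0x2180]]]⟩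
def cM32 : Pol := ⟨7, 8,
  [[[], [0, 0, 0, 0, 0x8450], [0, 0, 0, 0, 0x2800]],
   [[0, 0, 0, 0, 0x6500], [0, 0, 0, 0x4080, 0x1a80], [0, 0, 0x1040, 0x480a, 0x50], [0, 0, 0x820, 0x120]],
   [[0, 0, 0, 0x86a0, 0x2140], [0, 0, 0x2640, 0x9490, 0xa50], [0, 0x2940, 0x6585, 0x2155], [0, 0x444, 0x4441, 0xa50], [0, 0x410, 0x1860]],
   [[0, 0, 0, 0x1500], [0, 0x2040, 0xaa64, 0x1a0], [0, 0x2094, 0x9611, 0x5a0], [0x1680, 0x64a8, 0x294], [0x2848, 0x818a]],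
   [[], [0, 0x420, 0x2a00], [0x1890, 0x9615, 0x1110], [0x2502, 0x6228], [0x2445]]]⟩
def cM33 : Pol := ⟨7, 8,
  [[[0, 0, 0, 0, 0xa80], [0, 0, 0, 0, 0x2650], [0, 0, 0, 0x1040, 0x1940], [0, 0, 0, 0x820, 0xa50]],
   [[0, 0, 0, 0x600, 0x2a00], [0, 0, 0, 0x6284, 0x400], [0, 0, 0x820, 0x6a96, 0x50], [0, 0, 0x2698, 0x15], [0, 0, 0x82, 0x5a0]],
   [[0, 0, 0, 0x1800], [0, 0, 0x95a0, 0x800], [0, 0x2940, 0x1611, 0x1810], [0, 0x514, 0x5a48, 0xa50], [0, 0x26, 0x2058]],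
   [[], [0, 0, 0x600], [0, 0xa968, 0x90], [0x1110, 0x2a5a, 0x2490], [0x50a, 0x5922]],
   [[], [], [0, 0x2a00], [0x8694, 0x1110], [0x9aa1]]]⟩
theorem M30_chk : check [[two.f, two.f, dA.f, M3.f],
    [cM31.f, Q20.f],
    [cM32.f, E20.f]] 15 11 77 505 12 = true := by decide +kernel
theorem M31_chk : check [[cM30.f, Q11.f],
    [cM31.f, Q21.f],
    [cM32.f, E21.f],
    [cM33.f, E20.f]] 15 11 77 515 12 = true := by decide +kernel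
theorem M32_chk : check [[cM30.f, Q12.f],
    [cM31.f, Q22.f],
    [cM32.f, E22.f]] 15 12 84 551 12 = true := by decide +kernel
theorem M33_chk : check [[two.f, pY.f, dA.f, pXZ.f, M0.f],
    [cM30.f, Q13.f],
    [cM31.f, Q23.f],
    [cM33.f, E21.f]] 15 11 76 519 12 = true := by decide +kernel
theorem M34_chk : check [[cM30.f, Q14.f],
    [cM33.f, E22.f]] 14 12 83 556 12 = true := by decide +kernel
def cM40 : Pol := ⟨10, 12,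
  [[[0, 0, 0, 0, 0, 0, 0x10410], [0, 0, 0, 0, 0, 0, 0x22440], [0, 0, 0, 0, 0, 0x8004, 0x16200], [0, 0, 0, 0, 0, 0xa2819, 0x24000], [0, 0, 0, 0, 0x29250, 0x992a0, 0x11100]],
   [[0, 0, 0, 0, 0, 0x15a80, 0x41040], [0, 0, 0, 0, 0, 0x26a912, 0x89910], [0, 0, 0, 0, 0x62280, 0x182841, 0x58800], [0, 0, 0, 0, 0x69285, 0x220aa0, 0x1200], [0, 0, 0, 0x4920, 0xa4619, 0xa6620], [0, 0, 0, 0x161a, 0x80040, 0x11100]],
   [[0, 0, 0, 0, 0x18900, 0x56a00], [0, 0, 0, 0, 0x228840, 0x52020], [0, 0, 0, 0x41190, 0x100140, 0x9a560, 0x21000], [0, 0, 0, 0x96069, 0x226866, 0x92550], [0, 0, 0x4920, 0x4556a, 0xa1148, 0x21000], [0, 0, 0x2684a, 0x95826, 0x90450], [0, 0, 0x15a95, 0xa6110, 0x11100]],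
   [[0, 0, 0, 0, 0x62400], [0, 0, 0, 0x2a6090, 0x50880], [0, 0, 0x59940, 0x1249a1, 0x49110, 0x6000], [0, 0, 0x15540, 0x2906a9, 0x26160, 0x1200], [0, 0x1aa90, 0x1865a, 0x51969, 0x88560], [0, 0x2684a, 0x69a41, 0x98694, 0x11100], [0, 0x15a95, 0x14526, 0x95580]],
   [[], [0, 0, 0, 0x91800], [0, 0, 0x66828, 0x1a280, 0x6000], [0, 0x46620, 0x1151a, 0x51420, 0x28200], [0, 0x1221, 0x184a46, 0x55080, 0x11100], [0x25560, 0x90585, 0x291696, 0x59940], [0x15a95, 0x2819a, 0x180240]],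
   [[], [], [0, 0, 0x85200, 0x15000], [0, 0x49248, 0xaa610, 0x28200], [0x60090, 0x108189, 0x605a0, 0x11100], [0xa8a02, 0x204660, 0x60090], [0x52506, 0x149418]],
   [[], [], [], [0, 0x4a100, 0x2a000], [0x191808, 0x944a0, 0x11100], [0x20198a, 0x65520], [0x169941]]]⟩
def cM41 : Pol := ⟨7, 10,
  [[[], [0, 0, 0, 0, 0, 0x4200], [0, 0, 0, 0, 0x2664, 0x5040], [0, 0, 0, 0, 0x2619, 0x1020]],
   [[0, 0, 0, 0, 0, 0xa182], [0, 0, 0, 0, 0xaa85, 0xa080], [0, 0, 0, 0x1110, 0x9924, 0x800], [0, 0, 0, 0x5a0, 0x1448, 0x800], [0, 0, 0, 0x2254, 0x1650, 0x200], [0, 0, 0x145, 0x190, 0x100]],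
   [[0, 0, 0, 0, 0x69a8, 0x1080], [0, 0, 0, 0x2808, 0x46a4, 0x1410], [0, 0, 0, 0xa5, 0x518, 0x400], [0, 0, 0x188a, 0x124a, 0x8a0, 0x200], [0, 0, 0xa84, 0x1514, 0x440], [0, 0x145, 0x2a51, 0x19a0]],
   [[0, 0, 0, 0, 0x2a00], [0, 0, 0x1890, 0x459, 0x8a0], [0, 0, 0x1515, 0x521, 0x1000, 0x200], [0, 0x888, 0x106a, 0xa50, 0x880], [0, 0x1192, 0x99a4, 0xa20], [0x145, 0x1a04, 0x8418]],
   [[], [0, 0, 0x918, 0x2040], [0, 0x1284, 0x498, 0x490, 0x200], [0, 0x1689, 0x5848, 0x1a50], [0x555, 0x6119, 0x5158], [0x596, 0x4a60]],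
   [[], [], [0, 0x56a, 0x2460, 0x200], [0x1665, 0x9a59, 0x2060], [0x2889, 0x89aa], [0x1561]]]⟩
def cM42 : Pol := ⟨7, 10,
  [[[], [0, 0, 0, 0, 0, 0x4800], [0, 0, 0, 0, 0x2490, 0x1200]],
   [[0, 0, 0, 0, 0, 0xa440], [0, 0, 0, 0, 0xa890, 0x200], [0, 0, 0, 0x1110, 0x4959, 0x800], [0, 0, 0, 0x1699, 0x2980, 0x100], [0, 0, 0, 0xa50, 0x200]],
   [[0, 0, 0, 0, 0x6a08, 0x1a10], [0, 0, 0, 0x28a4, 0x8821], [0, 0, 0, 0x5a9, 0x1420, 0x200], [0, 0, 0x1214, 0x48a, 0x520], [0, 0, 0x1450, 0x25a0], [0, 0, 0x640]],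
   [[0, 0, 0, 0, 0x2040], [0, 0, 0x1890, 0x2040, 0x2820], [0, 0, 0x486, 0x858, 0x50], [0, 0x444, 0x484, 0x1998], [0, 0x109a, 0x8549], [0, 0x2105, 0x1110]],
   [[], [0, 0, 0x918, 0x2040], [0, 0x1284, 0x24a2, 0x2840], [0, 0x921, 0x5659], [0xaaa, 0x5811, 0x1110], [0, 0x8004]],
   [[], [], [0, 0x56a, 0x2190], [0x1665, 0x8004, 0x1110], [0x1446, 0x4008]]]⟩
def cM43 : Pol := ⟨7, 10,
  [[[0, 0, 0, 0, 0, 0x420], [0, 0, 0, 0, 0, 0x480], [0, 0, 0, 0, 0x168, 0x1200], [0, 0, 0, 0, 0x1926]],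
   [[0, 0, 0, 0, 0xa80, 0x1080], [0, 0, 0, 0, 0x9861, 0x900], [0, 0, 0, 0x1860, 0x9495, 0x800], [0, 0, 0, 0x1aa9, 0x2980, 0x100], [0, 0, 0, 0x1588, 0x160], [0, 0, 0x28a, 0x190]],
   [[0, 0, 0, 0, 0x2a00], [0, 0, 0, 0x4158, 0x2640], [0, 0, 0x2220, 0x4551, 0x2000, 0x200], [0, 0, 0x2184, 0x640, 0x410], [0, 0, 0x1018, 0x2588], [0, 0x28a, 0x116a]],
   [[], [0, 0, 0, 0x1080], [0, 0, 0x1a4, 0x860, 0x200], [0, 0x2aa8, 0x1015, 0x2540], [0, 0x2626, 0x6a1], [0x28a, 0x1509, 0x1110]],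
   [[], [], [0, 0, 0x1890, 0x200], [0, 0x14a, 0x2020], [0x2445, 0x4255, 0x2220], [0x1040, 0x6aa4]],
   [[], [], [], [0, 0x2a00], [0x8694, 0x1110], [0x9aa1]]]⟩
theorem M40_chk : check [[two.f, two.f, pX.f, dA.f, dA.f, pYZ.f, M4.f],
    [cM41.f, Q20.f],
    [cM42.f, E20.f]] 17 11 88 659 13 = true := by decide +kernel
theorem M41_chk : check [[cM40.f, Q11.f],
    [cM41.f, Q21.f],
    [cM42.f, E21.f],
    [cM43.f, E20.f]] 16 11 88 669 13 = true := by decide +kernel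
theorem M42_chk : check [[cM40.f, Q12.f],
    [cM41.f, Q22.f],
    [cM42.f, E22.f]] 15 12 96 729 13 = true := by decide +kernel
theorem M43_chk : check [[cM40.f, Q13.f],
    [cM41.f, Q23.f],
    [cM43.f, E21.f]] 15 11 87 671 13 = true := by decide +kernel
theorem M44_chk : check [[two.f, pm.f, pY.f, dA.f, dA.f, pXZ.f, M0.f],
    [cM40.f, Q14.f],
    [cM43.f, E22.f]] 17 12 95 734 13 = true := by decide +kernel
theorem d3_chk : check [[two.f, pp.f, pm.f, pX.f, pY.f, dA.f, pXZ.f, d3.f],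
    [E20.f, E31.f, E42.f],
    [two.f, E20.f, E32.f, E41.f],
    [two.f, E21.f, E30.f, E42.f],
    [E21.f, E32.f, E40.f],
    [E22.f, E30.f, E41.f],
    [two.f, E22.f, E31.f, E40.f]] 19 16 112 749 13 = true := by decide +kernel

end Cfsg.Lib.ReeU.Kr
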